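import Cfsg.Agent.Ree.Field.Transfer
import Cfsg.Agent.SylowEight.Main
import Cfsg.Agent.S0343

/-!
From the pieces to the groups of Janko–Ree type.
-/

set_option autoImplicit false
set_option linter.unusedSectionVars false
set_option linter.style.haveILetI false

namespace Cfsg.Lib.Ree.Field

open Subgroup

universe u

variable {G : Type u} [Group G] [Finite G] {t : G} {E E₀ : Subgroup G} {F : Type} [Field F] [Fintype F]

/-- The induction. -/
theorem noFieldProp_of_specs (hL : LocalSpec.{u}) (hA : RAdicSpec.{u}) (hS : SmallSpec.{u}) (h3 : ThreeSpec.{u})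
    (h27 : TwentySevenSpec.{u}) : NoFieldProp.{u} := by
  intro G _ _ t E E₀ F _ _ J
  suffices ∀ n : ℕ, NoFieldBelow.{u} n from this (Nat.card G + 1) G t E E₀ F (Nat.lt_succ_self _) J
  intro n
  induction n with
  | zero => intro G _ _ t E E₀ F _ _ h; omega
  | succ n ih =>
    intro G _ _ t E E₀ F _ _ hlt J
    have hind : NoFieldBelow.{u} (Nat.card G) := fun H _ _ s D D₀ K _ _ hH JH =>
      ih H s D D₀ K (by omega) JH
    by_contra hne
    by_cases hpr : ∀ r : ℕ, r.Prime → r ∣ E₀.relIndex E → r = 3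
    · by_cases hq : Fintype.card F = 27
      · exact hne (h27 G t E E₀ F J hq)
      · exact h3 G t E E₀ F J hind hne hpr hq
    · push Not at hpr
      obtain ⟨r, hr, hdvd, hr3⟩ := hpr
      obtain ⟨T, x, F₁, iF, iFt, X, L⟩ := hL G t E E₀ F J hind r hr hdvd
      have hinv := invCount_dvd J X L
      rcases L.cases with h | h | ⟨h, -⟩
      · exact hS G t E E₀ F J hind T r x F₁ X L hr3 hinv (Or.inl h)
      · exact hS G t E E₀ F J hind T r x F₁ X L hr3 hinv (Or.inr h)
      · exact hA G t E E₀ F J T r x F₁ X L hr3 hinv h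

/-- The centralizer when `E = E₀`. -/
theorem centralizer_iso (J : JRSetting t E E₀ F) (hE : E = E₀) :
    Nonempty (centralizer ({t} : Set G) ≃* Multiplicative (ZMod 2) × Matrix.ProjectiveSpecialLinearGroup (Fin 2) F) := by
  classical
  obtain ⟨f⟩ := J.hyp.iso
  have h2 : Nat.card (zpowers t) = 2 := by rw [Nat.card_zpowers, J.hyp.ord]
  haveI : Fact (Nat.Prime 2) := ⟨Nat.prime_two⟩
  let a : Multiplicative (ZMod 2) ≃* zpowers t :=
    mulEquivOfPrimeCardEq (p := 2) (by simp) h2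
  have hcomm : ∀ (z : zpowers t) (e : E), Commute (z : G) e := fun z e => by
    obtain ⟨k, hk⟩ := mem_zpowers_iff.1 z.2
    rw [← hk]
    exact (J.hyp.comm _ e.2).zpow_left k
  let m : zpowers t × E →* centralizer ({t} : Set G) :=
    MonoidHom.mk' (fun w => ⟨(w.1 : G) * w.2, mul_mem (zpowers_le.2 J.twist.t_mem_C w.1.2) (J.twist.E_le_C w.2.2)⟩)
      fun w w' => Subtype.ext (by
        simp only [Prod.fst_mul, Prod.snd_mul, coe_mul]
        exact (hcomm w'.1 w.2).symm.mul_mul_mul_comm _ _ |>.symm)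
  have hbij : Function.Bijective m := by
    refine (Nat.bijective_iff_surjective_and_card m).2 ⟨fun c => ?_, ?_⟩
    · obtain ⟨e, he, h | h⟩ := J.twist.split (J.twist.mem_C.1 c.2)
      · exact ⟨(1, ⟨e, he⟩), Subtype.ext (by simp [m, h])⟩
      · exact ⟨(⟨t, mem_zpowers t⟩, ⟨e, he⟩), Subtype.ext (by simp [m, h])⟩
    · rw [Nat.card_prod, h2, J.twist.card_C]
  exact ⟨(MulEquiv.ofBijective m hbij).symm.trans
    (MulEquiv.prodCongr a.symm ((MulEquiv.subgroupCongr hE).trans f))⟩

/-- The groups of Janko–Ree type. -/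
theorem jrProp_of_noField (h : NoFieldProp.{u}) : SylowEight.JRProp.{u} := by
  intro X _ _ hX hnab hab hJ
  obtain ⟨h8, t, E, E₀, F, iF, iFt, h5, hmod, hh⟩ := hJ
  have J : JRSetting t E E₀ F := ⟨hX, hnab, hab, h8, hh, h5, hmod⟩
  have hE := h X t E E₀ F J
  rcases Cfsg.Agent.S0343.result (fun P a b => Subtype.ext (hab P a a.2 b b.2)) (F := F) (by omega) t hh.ord
    (centralizer_iso J hE) with ⟨m, hm, -, hord⟩ | ⟨-, hj⟩
  · exact Or.inl ⟨hX, m, hm, hord⟩
  · exact Or.inr hj

theorem jrProp_of_specs (hL : LocalSpec.{u}) (hA : RAdicSpec.{u}) (hS : SmallSpec.{u}) (h3 : ThreeSpec.{u})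
    (h27 : TwentySevenSpec.{u}) : SylowEight.JRProp.{u} :=
  jrProp_of_noField (noFieldProp_of_specs hL hA hS h3 h27)

end Cfsg.Lib.Ree.Field
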