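import Cfsg.Agent.Ree.Field.Basic
import Cfsg.Agent.LocalThree.McLLocal.WeakTransfer

/-!
If `r` does not divide the number of involutions commuting with `x`, the transfer to the centralizer of the
involution is not trivial at `x`.
-/

set_option autoImplicit false
set_option linter.unusedSectionVars false
set_option linter.style.haveILetI false

namespace Cfsg.Lib.Ree.Field

open Subgroup

universe u

variable {G : Type u} [Group G] [Finite G] {t : G} {E E₀ : Subgroup G} {F : Type} [Field F] [Fintype F]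

/-- The `E`-component is a homomorphism. -/
noncomputable def component (J : JRSetting t E E₀ F) : centralizer ({t} : Set G) →* E :=
  MonoidHom.mk' (fun c => (J.twist.equivC.symm c).2) fun c c' => by
    obtain ⟨⟨b, e⟩, rfl⟩ := J.twist.equivC.surjective c
    obtain ⟨⟨b', e'⟩, rfl⟩ := J.twist.equivC.surjective c'
    have : J.twist.equivC (b, e) * J.twist.equivC (b', e') = J.twist.equivC (xor b b', e * e') := by
      refine Subtype.ext ?_
      simp only [Subgroup.coe_mul, Twist.Setting.equivC_apply]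
      have hc := (J.hyp.comm _ e.2).eq
      cases b <;> cases b' <;> simp
      · rw [← mul_assoc, ← hc, mul_assoc]
      · rw [mul_assoc]
      · rw [show t * (e : G) * (t * e') = t * ((e : G) * t) * e' by group, ← hc, ← mul_assoc t t (e : G), J.hyp.tt,
          one_mul]
    rw [this, Equiv.symm_apply_apply, Equiv.symm_apply_apply, Equiv.symm_apply_apply]

theorem component_of_mem (J : JRSetting t E E₀ F) {y : G} (hy : y ∈ E) :
    component J ⟨y, J.twist.E_le_C hy⟩ = ⟨y, hy⟩ := by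
  have : J.twist.equivC (false, ⟨y, hy⟩) = ⟨y, J.twist.E_le_C hy⟩ := Subtype.ext (by simp [Twist.Setting.equivC_apply])
  show (J.twist.equivC.symm _).2 = _
  rw [← this, Equiv.symm_apply_apply]

/-- The case `r ∤ invCount x`. -/
theorem invCount_dvd (J : JRSetting t E E₀ F) {F₁ : Type} [Field F₁] [Fintype F₁] {T : Sylow 2 G} {r : ℕ} {x : G}
    (X : FieldElem t E E₀ T r x) (L : LocalData t E E₀ F r x F₁) : r ∣ invCount x := by
  classical
  by_contra hh
  haveI := J.simple
  haveI : Fact r.Prime := ⟨X.prime⟩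
  set C := centralizer ({t} : Set G)
  set K : Subgroup E := E₀.subgroupOf E with hK
  haveI : K.Normal := ⟨fun a ha b => J.hyp.norm b b.2 a ha⟩
  letI : CommGroup (E ⧸ K) := { (inferInstance : Group (E ⧸ K)) with
    mul_comm := fun a b => by
      induction a using QuotientGroup.induction_on with
      | _ a =>
        induction b using QuotientGroup.induction_on with
        | _ b =>
          rw [← QuotientGroup.mk_mul, ← QuotientGroup.mk_mul, QuotientGroup.eq]
          have h := L.abel _ (inv_mem b.2) _ (inv_mem a.2)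
          simpa [hK, mem_subgroupOf, mul_assoc] using h }
  set xE : E := ⟨x, X.mem⟩
  set xb : E ⧸ K := (xE : E ⧸ K) with hxb
  have hord : orderOf xb = orderOf x := by
    refine orderOf_eq_orderOf_iff.2 fun n => ?_
    rw [hxb, ← QuotientGroup.mk_pow, QuotientGroup.eq_one_iff, hK, mem_subgroupOf, SubmonoidClass.coe_pow]
    refine ⟨fun h => ?_, fun h => h.symm ▸ one_mem _⟩
    have : x ^ n ∈ zpowers x ⊓ E₀ := ⟨pow_mem (mem_zpowers x) n, h⟩
    rwa [X.inter, mem_bot] at this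
  -- the index of the image of `x` is prime to `r`
  have hidx : ¬ r ∣ (zpowers xb).index := by
    have h1 : (zpowers xb).comap (QuotientGroup.mk' K) = (zpowers x ⊔ E₀).subgroupOf E := by
      rw [show zpowers xb = (zpowers xE).map (QuotientGroup.mk' K) from
        (MonoidHom.map_zpowers (QuotientGroup.mk' K) xE).symm, comap_map_eq, QuotientGroup.ker_mk', hK,
        subgroupOf_sup (zpowers_le.2 X.mem) J.hyp.le]
      congr 1
      apply map_injective E.subtype_injective
      rw [MonoidHom.map_zpowers, subgroupOf_map_subtype, inf_eq_left.2 (zpowers_le.2 X.mem)]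
      rfl
    rw [← index_comap_of_surjective (zpowers xb) (QuotientGroup.mk'_surjective K), h1]
    exact X.gen
  have hcard : orderOf x * (zpowers xb).index = Nat.card (E ⧸ K) := by
    rw [← hord, ← Nat.card_zpowers, card_mul_index]
  obtain ⟨a, ha⟩ := X.pow
  have ha0 : a ≠ 0 := fun a0 => X.ne (orderOf_eq_one_iff.1 (by rw [ha, a0, pow_zero]))
  obtain ⟨b, rfl⟩ := Nat.exists_eq_succ_of_ne_zero ha0
  set n := r ^ b * (zpowers xb).index with hn
  have hxn : xb ^ n ≠ 1 := by
    rw [Ne, ← orderOf_dvd_iff_pow_eq_one, hord, ha, hn, pow_succ]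
    exact fun h => hidx (Nat.dvd_of_mul_dvd_mul_left (pow_pos X.prime.pos b) h)
  have hsmall : ∀ z : E ⧸ K, z ^ r ^ b = 1 → z ^ n = 1 := fun z hz => by rw [hn, pow_mul, hz, one_pow]
  set φ : C →* E ⧸ K := (powMonoidHom n).comp ((QuotientGroup.mk' K).comp (component J)) with hφ
  have hxC : x ∈ C := mem_centralizer_singleton_iff.2 X.comm_t.eq
  have hφx : φ ⟨x, hxC⟩ = xb ^ n := by
    show (component J ⟨x, hxC⟩ : E ⧸ K) ^ n = _
    rw [component_of_mem J X.mem]
  have hφxr : φ ⟨x, hxC⟩ ^ r = 1 := by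
    rw [hφx, ← pow_mul, ← orderOf_dvd_iff_pow_eq_one, hord, ha, hn, pow_succ,
      show r ^ b * (zpowers xb).index * r = r ^ b * r * (zpowers xb).index by ring]
    exact dvd_mul_right _ _
  have key : ∀ (k : ℕ) (g₀ : G) (hk : g₀⁻¹ * x ^ k * g₀ ∈ C),
      φ ⟨g₀⁻¹ * x ^ k * g₀, hk⟩ = φ ⟨x, hxC⟩ ^ k := by
    intro k g₀ hk
    have hcp : ∀ i : ℕ, g₀⁻¹ * x ^ i * g₀ = (g₀⁻¹ * x * g₀) ^ i := fun i => by
      simpa using (conj_pow (a := g₀⁻¹) (b := x) (i := i)).symm
    by_cases hrk : r ∣ k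
    · obtain ⟨j, rfl⟩ := hrk
      rw [pow_mul (φ ⟨x, hxC⟩) r j, hφxr, one_pow]
      refine hsmall _ ?_
      have hz : (⟨g₀⁻¹ * x ^ (r * j) * g₀, hk⟩ : C) ^ r ^ b = 1 := Subtype.ext (by
        rw [SubmonoidClass.coe_pow]
        show (g₀⁻¹ * x ^ (r * j) * g₀) ^ r ^ b = 1
        rw [hcp, ← pow_mul, show r * j * r ^ b = r ^ (b + 1) * j by ring, ← hcp, pow_mul, ← ha, pow_orderOf_eq_one,
          one_pow, mul_one, inv_mul_cancel])
      show ((QuotientGroup.mk' K).comp (component J)) _ ^ r ^ b = 1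
      rw [← map_pow, hz, map_one]
    · have hcop : k.Coprime (orderOf (g₀⁻¹ * x * g₀)) := by
        rw [show g₀⁻¹ * x * g₀ = MulAut.conj g₀⁻¹ x by simp, MulEquiv.orderOf_eq, ha]
        exact ((X.prime.coprime_iff_not_dvd.2 hrk).symm).pow_right _
      obtain ⟨l, hl⟩ := exists_pow_eq_self_of_coprime hcop
      have hmem : g₀⁻¹ * x * g₀ ∈ C := by rw [← hl, ← hcp]; exact pow_mem hk l
      have hs : orderOf (g₀ * t * g₀⁻¹) = 2 := by rw [← MulAut.conj_apply, MulEquiv.orderOf_eq, J.hyp.ord]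
      have hsx : Commute (g₀ * t * g₀⁻¹) x := by
        have h := mem_centralizer_singleton_iff.1 hmem
        show g₀ * t * g₀⁻¹ * x = x * (g₀ * t * g₀⁻¹)
        calc g₀ * t * g₀⁻¹ * x = g₀ * (t * (g₀⁻¹ * x * g₀)) * g₀⁻¹ := by group
          _ = g₀ * (g₀⁻¹ * x * g₀ * t) * g₀⁻¹ := by rw [h]
          _ = x * (g₀ * t * g₀⁻¹) := by group
      obtain ⟨g, hgx, hgt⟩ := L.conj_t _ hs hsx
      have hc : g⁻¹ * g₀ ∈ C := mem_centralizer_singleton_iff.2 (by
        calc g⁻¹ * g₀ * t = g⁻¹ * (g₀ * t * g₀⁻¹) * g₀ := by group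
          _ = g⁻¹ * (g * t * g⁻¹) * g₀ := by rw [hgt]
          _ = t * (g⁻¹ * g₀) := by group)
      set c : C := ⟨g⁻¹ * g₀, hc⟩
      have e : (⟨g₀⁻¹ * x ^ k * g₀, hk⟩ : C) = (c⁻¹ * ⟨x, hxC⟩ * c) ^ k := Subtype.ext (by
        show g₀⁻¹ * x ^ k * g₀ = (((c⁻¹ * ⟨x, hxC⟩ * c) ^ k : C) : G)
        rw [hcp, SubmonoidClass.coe_pow]
        congr 1
        show g₀⁻¹ * x * g₀ = (g⁻¹ * g₀)⁻¹ * x * (g⁻¹ * g₀)
        rw [show (g⁻¹ * g₀)⁻¹ * x * (g⁻¹ * g₀) = g₀⁻¹ * (g * x) * g⁻¹ * g₀ by group, hgx.eq]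
        group)
      rw [e, map_pow, map_mul, map_mul, map_inv, mul_comm (φ c)⁻¹, mul_assoc, inv_mul_cancel, mul_one]
  have hT := Cfsg.Lib.McLLocal.transfer_eq_index φ hxC key
  have hne : MonoidHom.transfer φ x ≠ 1 := by
    rw [hT, Ne, ← orderOf_dvd_iff_pow_eq_one,
      orderOf_eq_prime hφxr (by rw [hφx]; exact hxn)]
    intro h
    exact hh (Nat.modEq_zero_iff_dvd.1 ((invCount_modEq J X).symm.trans (Nat.modEq_zero_iff_dvd.2 h)))
  rcases (MonoidHom.transfer φ).normal_ker.eq_bot_or_eq_top with hk | hk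
  · refine J.nab ⟨⟨fun a b => ?_⟩⟩
    exact (MonoidHom.ker_eq_bot_iff _).1 hk (by rw [map_mul, map_mul, mul_comm])
  · exact hne (MonoidHom.mem_ker.1 (hk ▸ mem_top x))

end Cfsg.Lib.Ree.Field
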