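import Cfsg.Agent.Ree.Setting
import Cfsg.Agent.Ree.Twist.Table
import Cfsg.Agent.Ree.Twist.Coords
import Cfsg.Agent.Ree.Arith.Spec
import Cfsg.Agent.Walter.Setting

/-!
Groups of Janko–Ree type have `E = E₀`: the pieces; see `notes/ree_partC_v2.md`.

`x` generates a Sylow `r`-subgroup of `C_E(T)`; the facts about its centralizer come from the induction on the
order of the group.
-/

set_option autoImplicit false

namespace Cfsg.Lib.Ree.Field

open Subgroup Cfsg

universe u

/-- A group of Janko–Ree type with its involution centralizer. -/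
structure JRSetting {G : Type u} [Group G] [Finite G] (t : G) (E E₀ : Subgroup G) (F : Type) [Field F]
    [Fintype F] : Prop where
  simple : IsSimpleGroup G
  nab : ¬ IsMulCommutative G
  ab : Walter.AbTwo G
  eight : ∀ S : Sylow 2 G, Nat.card ↥(S : Subgroup G) = 8
  hyp : AbCentMax.Hyp t E E₀ F
  five : 5 ≤ Fintype.card F
  mod : Fintype.card F % 8 = 3 ∨ Fintype.card F % 8 = 5

/-- There are no field automorphisms in the groups of order less than `n`. -/
def NoFieldBelow (n : ℕ) : Prop :=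
  ∀ (G : Type u) [Group G] [Finite G] (t : G) (E E₀ : Subgroup G) (F : Type) [Field F] [Fintype F],
    Nat.card G < n → JRSetting t E E₀ F → E = E₀

/-- The target. -/
def NoFieldProp : Prop :=
  ∀ (G : Type u) [Group G] [Finite G] (t : G) (E E₀ : Subgroup G) (F : Type) [Field F] [Fintype F],
    JRSetting t E E₀ F → E = E₀

variable {G : Type u} [Group G] [Finite G]

/-- The number of involutions commuting with `x`. -/
noncomputable def invCount (x : G) : ℕ := Nat.card {s : G // orderOf s = 2 ∧ Commute s x}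

/-- A generator of the `r`-part of `E` modulo `E₀`, centralizing a Sylow 2-subgroup. -/
structure FieldElem (t : G) (E E₀ : Subgroup G) (T : Sylow 2 G) (r : ℕ) (x : G) : Prop where
  prime : r.Prime
  mem : x ∈ E
  tT : t ∈ T
  cT : ∀ y ∈ T, Commute x y
  ne : x ≠ 1
  pow : ∃ a : ℕ, orderOf x = r ^ a
  inter : zpowers x ⊓ E₀ = ⊥
  gen : ¬ r ∣ (zpowers x ⊔ E₀).relIndex E

/-- The facts about the centralizer of `x`; `F₁` is the fixed field. -/
structure LocalData (t : G) (E E₀ : Subgroup G) (F : Type) [Fintype F] (r : ℕ) (x : G) (F₁ : Type) [Field F₁]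
    [Fintype F₁] : Prop where
  abel : ∀ a ∈ E, ∀ b ∈ E, a * b * a⁻¹ * b⁻¹ ∈ E₀
  card : Fintype.card F = Fintype.card F₁ ^ orderOf x
  fixed : Nonempty (↥(E₀ ⊓ centralizer ({x} : Set G)) ≃* Matrix.ProjectiveSpecialLinearGroup (Fin 2) F₁)
  conj_t : ∀ s : G, orderOf s = 2 → Commute s x → ∃ g : G, Commute g x ∧ g * t * g⁻¹ = s
  not_conj : ∀ (g : G) (i : ℕ), g * x * g⁻¹ = x ^ i → g * x * g⁻¹ = x
  core : ∀ K : Subgroup G, K ≤ centralizer ({x} : Set G) → centralizer ({x} : Set G) ≤ normalizer (K : Set G) →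
    Odd (Nat.card K) → K ≤ zpowers x
  cases : Fintype.card F₁ = 3 ∨ Fintype.card F₁ = 5 ∨
    (27 ≤ Fintype.card F₁ ∧ (∃ n : ℕ, Fintype.card F₁ = 3 ^ n) ∧
      ∃ (N : Subgroup G) (K : Type u) (_ : Group K) (_ : Finite K) (π : N →* K) (tK : K) (EK : Subgroup K),
        x ∈ N ∧ N ≤ centralizer ({x} : Set G) ∧ centralizer ({x} : Set G) ≤ normalizer (N : Set G) ∧
          Function.Surjective π ∧ π.ker = (zpowers x).subgroupOf N ∧
          (∃ ht : t ∈ N, π ⟨t, ht⟩ = tK) ∧ EK = ((E₀ ⊓ centralizer ({x} : Set G)).subgroupOf N).map π ∧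
          Setting tK EK F₁)

/-- The structure of the centralizer, by induction. -/
def LocalSpec : Prop :=
  ∀ (G : Type u) [Group G] [Finite G] (t : G) (E E₀ : Subgroup G) (F : Type) [Field F] [Fintype F],
    JRSetting t E E₀ F → NoFieldBelow.{u} (Nat.card G) → ∀ r : ℕ, r.Prime → r ∣ E₀.relIndex E →
      ∃ (T : Sylow 2 G) (x : G) (F₁ : Type) (_ : Field F₁) (_ : Fintype F₁),
        FieldElem t E E₀ T r x ∧ LocalData t E E₀ F r x F₁

/-- The `r`-adic contradiction, `r ≥ 7`. -/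
def RAdicSpec : Prop :=
  ∀ (G : Type u) [Group G] [Finite G] (t : G) (E E₀ : Subgroup G) (F : Type) [Field F] [Fintype F],
    JRSetting t E E₀ F → ∀ (T : Sylow 2 G) (r : ℕ) (x : G) (F₁ : Type) [Field F₁] [Fintype F₁],
      FieldElem t E E₀ T r x → LocalData t E E₀ F r x F₁ → r ≠ 3 → r ∣ invCount x →
      27 ≤ Fintype.card F₁ → False

/-- The fields over `GF(3)` and `GF(5)`. -/
def SmallSpec : Prop :=
  ∀ (G : Type u) [Group G] [Finite G] (t : G) (E E₀ : Subgroup G) (F : Type) [Field F] [Fintype F],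
    JRSetting t E E₀ F → NoFieldBelow.{u} (Nat.card G) →
    ∀ (T : Sylow 2 G) (r : ℕ) (x : G) (F₁ : Type) [Field F₁] [Fintype F₁],
      FieldElem t E E₀ T r x → LocalData t E E₀ F r x F₁ → r ≠ 3 → r ∣ invCount x →
      (Fintype.card F₁ = 3 ∨ Fintype.card F₁ = 5) → False

/-- The index is a power of 3, `q ≠ 27`. -/
def ThreeSpec : Prop :=
  ∀ (G : Type u) [Group G] [Finite G] (t : G) (E E₀ : Subgroup G) (F : Type) [Field F] [Fintype F],
    JRSetting t E E₀ F → NoFieldBelow.{u} (Nat.card G) → E ≠ E₀ →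
    (∀ r : ℕ, r.Prime → r ∣ E₀.relIndex E → r = 3) → Fintype.card F ≠ 27 → False

/-- `q = 27`. -/
def TwentySevenSpec : Prop :=
  ∀ (G : Type u) [Group G] [Finite G] (t : G) (E E₀ : Subgroup G) (F : Type) [Field F] [Fintype F],
    JRSetting t E E₀ F → Fintype.card F = 27 → E = E₀

section

open scoped _root_.Classical

variable {G : Type u} [Group G] [Fintype G]

/-- The sign of `signedCard`. -/
noncomputable def cardSign (F : Type) [Fintype F] : ℤ := if Fintype.card F % 8 = 5 then 1 else -1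

/-- The number of Sylow `p`-subgroups of `E₀` normalized by `y`. -/
noncomputable def fixCount (E₀ : Subgroup G) (p : ℕ) (y : G) : ℕ :=
  Nat.card {P : Sylow p ↥E₀ // y ∈ normalizer ((((P : Subgroup ↥E₀).map E₀.subtype) : Subgroup G) : Set G)}

/-- The principal block of `E` and the separation of its twists at the section of `t`. -/
structure TwistFacts (t : G) (E E₀ : Subgroup G) [Fintype E] (F : Type) [Fintype F] {M : Ideal AlgInt}
    (T : Twist.KTable E M) : Prop where
  steinberg : ∀ p n : ℕ, p.Prime → Fintype.card F = p ^ n → ∀ y : E,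
    T.ps 1 y = (cardSign F : ℂ) * ((fixCount E₀ p (y : G) : ℂ) - 1)
  mid : T.A 1 = (midVal (signedCard F) : ℂ) ∧ T.B 1 = (midVal (signedCard F) : ℂ)
  sep : ∀ μ : E →* ℂˣ, (∀ y : E, (y : G) ∈ E₀ → μ y = 1) → ∀ χ : IrrCharacter G,
    (coord t E χ (Twist.twist μ T.x) ≠ 0 ∨ coord t E χ (Twist.twist μ T.al) ≠ 0 ∨
      coord t E χ (Twist.twist μ T.be) ≠ 0) →
    (∀ y : E, Odd (orderOf y) → sectVal t E χ y = (μ y : ℂ) *
      (-coord t E χ (Twist.twist μ T.x) + coord t E χ (Twist.twist μ T.al) * T.A y +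
        coord t E χ (Twist.twist μ T.be) * T.B y)) ∧
    ∀ μ' : E →* ℂˣ, (∀ y : E, (y : G) ∈ E₀ → μ' y = 1) → μ' ≠ μ →
      coord t E χ (Twist.twist μ' T.x) = 0 ∧ coord t E χ (Twist.twist μ' T.al) = 0 ∧
        coord t E χ (Twist.twist μ' T.be) = 0

end

/-- The twisted section. -/
def TwistSpec : Prop :=
  ∀ (G : Type u) [Group G] [Fintype G] (t : G) (E E₀ : Subgroup G) [Fintype E] (F : Type) [Field F] [Fintype F],
    Twist.Setting t E E₀ F → (∀ a ∈ E, ∀ b ∈ E, a * b * a⁻¹ * b⁻¹ ∈ E₀) →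
    ∀ M : Ideal AlgInt, IsPModular 2 M → ∃ T : Twist.KTable E M, TwistFacts t E E₀ F T

end Cfsg.Lib.Ree.Field
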