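import Cfsg.Agent.Ree.Field.Close
import Cfsg.Agent.Ree.Field.Consumers
import Cfsg.Agent.Ree.Three.Instance

/-!
Groups of Janko–Ree type have no field automorphisms: the closed forms.
-/

set_option autoImplicit false

namespace Cfsg.Lib.Ree.Field

universe u

/-- No field automorphisms. -/
theorem noFieldProp : NoFieldProp.{u} :=
  noFieldProp_of_three Three.threeSpec

/-- The groups of Janko–Ree type. -/
theorem jrProp : SylowEight.JRProp.{u} :=
  jrProp_of_noField noFieldProp

/-- The split form. -/
theorem jrSplit : PiHomog.JRSplit.{u} :=
  jrSplit_of_noField noFieldProp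

end Cfsg.Lib.Ree.Field
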