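import Cfsg.Agent.Ree.Field.RAdic.Spec
import Cfsg.Agent.Ree.Field.Glue
import Cfsg.Agent.Ree.SevenPow.Main
import Cfsg.Agent.Ree.TwentySeven.Final

/-!
`Cfsg.Lib.Ree.Field.NoFieldProp` from the remaining pieces.
-/

set_option autoImplicit false

namespace Cfsg.Lib.Ree.Field

universe u

/-- What is left: the `r`-adic and the 3-part pieces. -/
theorem noFieldProp_of_rest (hA : RAdicSpec.{u}) (h3 : ThreeSpec.{u}) : NoFieldProp.{u} :=
  noFieldProp_of_specs localSpec hA (smallSpec sevenPowSpec) h3 twentySevenSpec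

/-- The same with the two pieces of the `r`-adic argument. -/
theorem noFieldProp_of_pieces (hH : RAdic.HSpec.{u}) (hC : RAdic.CoreSpec.{u}) (h3 : ThreeSpec.{u}) : NoFieldProp.{u} :=
  noFieldProp_of_rest (RAdic.rAdicSpec_of twistSpec hH hC) h3

end Cfsg.Lib.Ree.Field
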