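import Cfsg.Agent.Ree.Field.Spec
import Cfsg.Agent.Chars.Count

/-!
Elementary facts about a group of Janko–Ree type and the `r`-part of `E` modulo `E₀`.
-/

set_option autoImplicit false
set_option linter.unusedSectionVars false
set_option linter.style.haveILetI false

namespace Cfsg.Lib.Ree.Field

open Subgroup MulAction

universe u

variable {G : Type u} [Group G] [Finite G] {t : G} {E E₀ : Subgroup G} {F : Type} [Field F] [Fintype F]

theorem JRSetting.comm_sylow (J : JRSetting t E E₀ F) (S : Sylow 2 G) : IsMulCommutative ↥(S : Subgroup G) :=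
  ⟨⟨fun a b => Subtype.ext (J.ab S a a.2 b b.2)⟩⟩

theorem JRSetting.twist (J : JRSetting t E E₀ F) : Twist.Setting t E E₀ F :=
  ⟨J.simple, J.nab, J.comm_sylow, J.hyp, J.mod, J.five⟩

/-- The number of involutions. -/
theorem JRSetting.card_inv (J : JRSetting t E E₀ F) :
    Nat.card {s : G // orderOf s = 2} = (centralizer ({t} : Set G)).index := by
  rw [← Cfsg.Lib.Chars.card_isConj t]
  refine Nat.card_congr (Equiv.subtypeEquivRight fun s => ⟨fun h => J.twist.conj_all h, fun h => ?_⟩)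
  obtain ⟨g, rfl⟩ := isConj_iff.1 h
  rw [← MulAut.conj_apply, MulEquiv.orderOf_eq, J.hyp.ord]

theorem FieldElem.comm_t {T : Sylow 2 G} {r : ℕ} {x : G} (X : FieldElem t E E₀ T r x) : Commute x t :=
  X.cT t X.tT

theorem FieldElem.r_dvd {T : Sylow 2 G} {r : ℕ} {x : G} (X : FieldElem t E E₀ T r x) : r ∣ orderOf x := by
  obtain ⟨a, ha⟩ := X.pow
  rw [ha]
  refine dvd_pow_self r fun a0 => X.ne (orderOf_eq_one_iff.1 ?_)
  rw [ha, a0, pow_zero]

/-- The involutions commuting with `x` modulo `r`. -/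
theorem invCount_modEq (J : JRSetting t E E₀ F) {T : Sylow 2 G} {r : ℕ} {x : G}
    (X : FieldElem t E E₀ T r x) : (centralizer ({t} : Set G)).index ≡ invCount x [MOD r] := by
  classical
  haveI : Fact r.Prime := ⟨X.prime⟩
  let hsmul : MulAction (zpowers x) {s : G // orderOf s = 2} :=
    { smul := fun g s => ⟨(g : G) * s * (g : G)⁻¹, by rw [← MulAut.conj_apply, MulEquiv.orderOf_eq, s.2]⟩
      one_smul := fun s => Subtype.ext (by show (1 : G) * s * (1 : G)⁻¹ = s; simp)
      mul_smul := fun g g' s => Subtype.ext (by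
        show ((g * g' : zpowers x) : G) * s * ((g * g' : zpowers x) : G)⁻¹ = g * (g' * s * (g' : G)⁻¹) * (g : G)⁻¹
        rw [coe_mul]; group) }
  obtain ⟨a, ha⟩ := X.pow
  have hp : IsPGroup r (zpowers x) := IsPGroup.of_card (by rw [Nat.card_zpowers, ha])
  have h := hp.card_modEq_card_fixedPoints {s : G // orderOf s = 2}
  rw [J.card_inv] at h
  convert h using 1
  refine Nat.card_congr ?_
  refine
    { toFun := fun s => ⟨⟨s.1, s.2.1⟩, fun g => Subtype.ext ?_⟩
      invFun := fun s => ⟨s.1.1, s.1.2, ?_⟩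
      left_inv := fun s => rfl
      right_inv := fun s => rfl }
  · obtain ⟨k, hk⟩ := mem_zpowers_iff.1 g.2
    show (g : G) * s.1 * (g : G)⁻¹ = s.1
    rw [← hk, ((s.2.2.zpow_right k)).eq.symm, mul_inv_cancel_right]
  · have h' := congrArg Subtype.val (s.2 ⟨x, mem_zpowers x⟩)
    exact (mul_inv_eq_iff_eq_mul.1 (h' : x * s.1.1 * x⁻¹ = s.1.1)).symm

end Cfsg.Lib.Ree.Field
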