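import Cfsg.Agent.Ree.Field.Glue
import Cfsg.Agent.PiHomogOdd.Main

/-!
The separation of the Janko and Ree types from the absence of field automorphisms.
-/

set_option autoImplicit false
set_option linter.unusedSectionVars false
set_option linter.style.haveILetI false

namespace Cfsg.Lib.Ree.Field

open Subgroup

universe u

/-- `Cfsg.Lib.PiHomog.JRSplit` from `NoFieldProp`. -/
theorem jrSplit_of_noField (h : NoFieldProp.{u}) : PiHomog.JRSplit.{u} := by
  intro X _ _ hX hnab hab hJ
  obtain ⟨h8, t, E, E₀, F, iF, iFt, h5, hmod, hh⟩ := hJ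
  have J : JRSetting t E E₀ F := ⟨hX, hnab, hab, h8, hh, h5, hmod⟩
  have hE := h X t E E₀ F J
  by_cases hbig : 11 ≤ Fintype.card F
  · subst hE
    exact Or.inr ⟨t, E, F, iF, iFt, hX, hnab, Walter.sylow_two_comm hab, hh, hmod, hbig⟩
  rcases Cfsg.Agent.S0343.result (fun P a b => Subtype.ext (hab P a a.2 b b.2)) (F := F) (by omega) t hh.ord
    (centralizer_iso J hE) with ⟨m, hm, hF, -⟩ | ⟨-, hj⟩
  · exfalso
    have : 27 ≤ 3 ^ (2 * m + 1) :=
      le_trans (by norm_num) (Nat.pow_le_pow_right three_pos (show 3 ≤ 2 * m + 1 by omega))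
    omega
  · exact Or.inl hj

end Cfsg.Lib.Ree.Field
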