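import Cfsg.Agent.Ree.Field.RAdic.Final
import Cfsg.Agent.Ree.Field.RAdic.HFacts
import Cfsg.Agent.Ree.Field.Assemble
import Cfsg.Agent.Ree.Field.Split

/-!
The `r`-adic piece is complete: what follows from `Cfsg.Lib.Ree.Field.ThreeSpec` alone.
-/

set_option autoImplicit false

namespace Cfsg.Lib.Ree.Field

universe u

/-- The `r`-adic piece. -/
theorem rAdicSpec : RAdicSpec.{u} :=
  RAdic.rAdicSpec_of twistSpec RAdic.hSpec RAdic.coreSpec

/-- No field automorphisms, given the 3-part. -/
theorem noFieldProp_of_three (h3 : ThreeSpec.{u}) : NoFieldProp.{u} :=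
  noFieldProp_of_rest rAdicSpec h3

/-- The groups of Janko–Ree type, given the 3-part. -/
theorem jrProp_of_three (h3 : ThreeSpec.{u}) : SylowEight.JRProp.{u} :=
  jrProp_of_noField (noFieldProp_of_three h3)

/-- The split form, given the 3-part. -/
theorem jrSplit_of_three (h3 : ThreeSpec.{u}) : PiHomog.JRSplit.{u} :=
  jrSplit_of_noField (noFieldProp_of_three h3)

end Cfsg.Lib.Ree.Field
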